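import Mathlib
import Cfsg.Agent.GroupBasics.Conjugates
import Cfsg.Agent.S4314

/-!
# Primes of class sizes far from a class of largest size

Let `y` have a class of the largest size `m`.
* Every element with class size coprime to `m` lies in an abelian normal subgroup `W`
  (the centre of the centralizer of the stabilizer of the class of `y`).
* If `s` is a prime all of whose class sizes are coprime to `m`, and `C` is the centralizer of a
  Sylow `s`-subgroup, then `G = W C` and `C / (W ⊓ C)` acts fixed point freely on `W / (W ⊓ C)`.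
-/

set_option autoImplicit false
set_option linter.style.haveILetI false
set_option linter.unusedSectionVars false

namespace CfsgLib.ClassSizeGraph

open Subgroup Cfsg.Agent.S4314

variable {G : Type*} [Group G] [Finite G]

/-- The size of a conjugacy class. -/
noncomputable abbrev cs (x : G) : ℕ := (centralizer ({x} : Set G)).index

theorem cs_pos (x : G) : 0 < cs x := Nat.pos_of_ne_zero index_ne_zero_of_finite

theorem cs_conj (a x : G) : cs (a * x * a⁻¹) = cs x := by
  rw [cs, cs, ← ncard_conjSet, ← ncard_conjSet]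
  congr 1
  ext v
  simp only [mem_conjSet]
  constructor
  · rintro ⟨g, rfl⟩; exact ⟨g * a, by group⟩
  · rintro ⟨g, rfl⟩; exact ⟨g * a⁻¹, by group⟩

theorem relIndex_dvd_cs {N : Subgroup G} (hN : N.Normal) (x : G) :
    (centralizer ({x} : Set G)).relIndex N ∣ cs x := by
  haveI := hN
  set C := centralizer ({x} : Set G) with hC
  have h1 := Subgroup.relIndex_mul_index (inf_le_right : C ⊓ N ≤ N)
  have h2 := Subgroup.relIndex_mul_index (inf_le_left : C ⊓ N ≤ C)
  rw [inf_relIndex_right] at h1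
  rw [inf_relIndex_left] at h2
  obtain ⟨k, hk⟩ := relIndex_dvd_index_of_normal N C
  have hpos : 0 < N.relIndex C := Nat.pos_of_ne_zero fun h0 => by
    rw [h0, zero_mul] at hk
    exact index_ne_zero_of_finite hk
  refine ⟨k, Nat.eq_of_mul_eq_mul_left hpos ?_⟩
  calc N.relIndex C * C.index = C.relIndex N * N.index := by rw [h2, h1]
    _ = N.relIndex C * (C.relIndex N * k) := by rw [hk]; ring

theorem relIndex_dvd_index_of_le_centralizer {N : Subgroup G} {x : G}
    (h : N ≤ centralizer ({x} : Set G)) : cs x ∣ N.index :=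
  index_dvd_of_le h

theorem commute_of_mem_centralizer {a x : G} (h : a ∈ centralizer ({x} : Set G)) : Commute a x :=
  mem_centralizer_singleton_iff.1 h

theorem mem_centralizer_of_commute {a x : G} (h : Commute a x) : a ∈ centralizer ({x} : Set G) :=
  mem_centralizer_singleton_iff.2 h.eq

/-! ### The abelian normal subgroup -/

/-- The stabilizer of the class of `y` under right translation. -/
def classStab (y : G) : Subgroup G where
  carrier := {w | ∀ v ∈ conjSet y, v * w ∈ conjSet y}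
  one_mem' := fun v hv => by rwa [mul_one]
  mul_mem' := fun ha hb v hv => by rw [← mul_assoc]; exact hb _ (ha v hv)
  inv_mem' := by
    intro w hw v hv
    have himg : (fun u => u * w) '' conjSet y = conjSet y :=
      Set.eq_of_subset_of_ncard_le (by rintro _ ⟨u, hu, rfl⟩; exact hw u hu)
        (by rw [Set.ncard_image_of_injective _ (mul_left_injective w)]) (Set.toFinite _)
    obtain ⟨u, hu, rfl⟩ := himg.symm ▸ hv
    simpa using hu

theorem classStab_normal (y : G) : (classStab y).Normal := by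
  refine ⟨fun w hw g v hv => ?_⟩
  have h1 := conj_mem_conjSet (hw _ (conj_mem_conjSet hv g⁻¹)) g
  convert h1 using 1
  group

theorem card_classStab_dvd (y : G) : Nat.card (classStab y) ∣ cs y := by
  rw [cs, ← ncard_conjSet]
  exact card_dvd_of_mul_mem _ _ fun s hs w hw => hw s hs

variable {y : G} (hmax : ∀ g : G, cs g ≤ cs y)

include hmax in
theorem comm_mem_classStab {x : G} (hx : Nat.Coprime (cs x) (cs y)) (g : G) :
    g * x * g⁻¹ * x⁻¹ ∈ classStab y := by
  have hsub : ∀ a : G, (fun v => v * (a * x * a⁻¹)) '' conjSet y ⊆ conjSet (y * x) := by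
    rintro a _ ⟨v, hv, rfl⟩
    obtain ⟨b, rfl⟩ := mem_conjSet.1 hv
    obtain ⟨c, hc, d, hd, hcd⟩ := exists_mul_of_coprime_index hx.symm (b⁻¹ * a)
    refine mem_conjSet.2 ⟨b * c, ?_⟩
    have hcy : c * y * c⁻¹ = y := by
      rw [(commute_of_mem_centralizer hc).eq, mul_inv_cancel_right]
    have hdx : d * x * d⁻¹ = x := by
      rw [(commute_of_mem_centralizer hd).eq, mul_inv_cancel_right]
    calc b * c * (y * x) * (b * c)⁻¹ = (b * (c * y * c⁻¹) * b⁻¹) * (b * c * x * (b * c)⁻¹) := by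
          group
      _ = b * y * b⁻¹ * (b * c * (d * x * d⁻¹) * (b * c)⁻¹) := by rw [hcy, hdx]
      _ = b * y * b⁻¹ * (b * (c * d) * x * (b * (c * d))⁻¹) := by group
      _ = b * y * b⁻¹ * (a * x * a⁻¹) := by rw [← hcd, mul_inv_cancel_left]
  have heq : ∀ a : G, (fun v => v * (a * x * a⁻¹)) '' conjSet y = conjSet (y * x) := fun a => by
    refine Set.eq_of_subset_of_ncard_le (hsub a) ?_ (Set.toFinite _)
    rw [Set.ncard_image_of_injective _ (mul_left_injective _), ncard_conjSet, ncard_conjSet]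
    exact hmax _
  intro v hv
  have h1 : v * (g * x * g⁻¹) ∈ (fun u => u * (1 * x * 1⁻¹)) '' conjSet y := by
    rw [heq 1, ← heq g]
    exact ⟨v, hv, rfl⟩
  obtain ⟨u, hu, hu'⟩ := h1
  replace hu' : u * (1 * x * 1⁻¹) = v * (g * x * g⁻¹) := hu'
  have : v * (g * x * g⁻¹ * x⁻¹) = u := by
    calc v * (g * x * g⁻¹ * x⁻¹) = v * (g * x * g⁻¹) * x⁻¹ := by group
      _ = u := by rw [← hu']; group
  rwa [this]

/-- The centre of the centralizer of the stabilizer. -/
def hub (y : G) : Subgroup G :=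
  centralizer (classStab y : Set G) ⊓
    centralizer ((centralizer (classStab y : Set G) : Subgroup G) : Set G)

theorem hub_normal (y : G) : (hub y).Normal := by
  haveI := classStab_normal y
  rw [hub]
  infer_instance

theorem hub_comm {a b : G} (ha : a ∈ hub y) (hb : b ∈ hub y) : Commute a b :=
  mem_centralizer_iff.1 hb.2 a ha.1

include hmax in
theorem mem_hub {x : G} (hx : Nat.Coprime (cs x) (cs y)) : x ∈ hub y := by
  haveI := classStab_normal y
  set K := classStab y with hK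
  set L := centralizer (K : Set G) with hL
  have hKm := card_classStab_dvd y
  -- `x` centralizes the stabilizer
  have hxK : x ∈ L := by
    have h : (centralizer ({x} : Set G)).relIndex K = 1 :=
      Nat.eq_one_of_dvd_coprimes hx (relIndex_dvd_cs (classStab_normal y) x)
        ((relIndex_dvd_card _ K).trans hKm)
    rw [relIndex_eq_one] at h
    exact mem_centralizer_iff.2 fun k hk => (commute_of_mem_centralizer (h hk)).eq
  refine ⟨hxK, mem_centralizer_iff.2 fun g hg => ?_⟩
  have hcK : ∀ h : G, h * x * h⁻¹ * x⁻¹ ∈ K := fun h => comm_mem_classStab hmax hx h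
  have hcL : ∀ h : G, h * x * h⁻¹ * x⁻¹ ∈ L := fun h =>
    mul_mem ((inferInstance : L.Normal).conj_mem x hxK h) (inv_mem hxK)
  let ψ : L →* K := MonoidHom.mk' (fun h => ⟨h.1 * x * h.1⁻¹ * x⁻¹, hcK h.1⟩) fun a b => by
    apply Subtype.ext
    change (a * b : L).1 * x * (a * b : L).1⁻¹ * x⁻¹ =
      (a.1 * x * a.1⁻¹ * x⁻¹) * (b.1 * x * b.1⁻¹ * x⁻¹)
    have h1 := mem_centralizer_iff.1 a.2 _ (hcK b.1)
    have h2 := mem_centralizer_iff.1 (hcL a.1) _ (hcK b.1)
    rw [← h2, coe_mul]
    calc a.1 * b.1 * x * (a.1 * b.1)⁻¹ * x⁻¹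
        = a.1 * (b.1 * x * b.1⁻¹ * x⁻¹) * (x * a.1⁻¹ * x⁻¹) := by group
      _ = (b.1 * x * b.1⁻¹ * x⁻¹) * a.1 * (x * a.1⁻¹ * x⁻¹) := by rw [h1]
      _ = _ := by group
  have hker : ψ.ker = (centralizer ({x} : Set G)).subgroupOf L := by
    ext h
    rw [MonoidHom.mem_ker, mem_subgroupOf, mem_centralizer_singleton_iff, Subtype.ext_iff]
    change h.1 * x * h.1⁻¹ * x⁻¹ = 1 ↔ _
    rw [mul_inv_eq_one, mul_inv_eq_iff_eq_mul]
  have hrange : Nat.card ψ.range = 1 := by
    refine Nat.eq_one_of_dvd_coprimes hx ?_ ((card_subgroup_dvd_card _).trans hKm)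
    rw [← index_ker, hker]
    exact relIndex_dvd_cs inferInstance x
  have hg' : ψ ⟨g, hg⟩ ∈ ψ.range := ⟨_, rfl⟩
  rw [Subgroup.card_eq_one.1 hrange, mem_bot, Subtype.ext_iff] at hg'
  replace hg' : g * x * g⁻¹ * x⁻¹ = 1 := hg'
  rwa [mul_inv_eq_one, mul_inv_eq_iff_eq_mul] at hg'

/-! ### The structure forced by a remote prime -/

/-- A prime dividing some class size but only sizes coprime to that of `y`. -/
structure Remote (y : G) (s : ℕ) : Prop where
  prime : s.Prime
  vertex : ∃ g : G, s ∣ cs g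
  coprime : ∀ g : G, s ∣ cs g → Nat.Coprime (cs g) (cs y)
  max : ∀ g : G, cs g ≤ cs y

variable {s : ℕ} [hsp : Fact s.Prime] (hr : Remote y s) (S : Sylow s G)

/-- The centralizer of the Sylow subgroup. -/
abbrev cen (S : Sylow s G) : Subgroup G := centralizer ((S : Subgroup G) : Set G)

include hr in
theorem exists_conj_mem {g : G} (hg : g ∉ hub y) : ∃ a : G, a * g * a⁻¹ ∈ cen S := by
  have hs : ¬ s ∣ (centralizer ({g} : Set G)).index := fun h =>
    hg (mem_hub hr.max (hr.coprime g h))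
  obtain ⟨T, -, hT⟩ := GroupBasics.exists_sylow_le hs (IsPGroup.of_bot) bot_le
  obtain ⟨a, rfl⟩ := MulAction.exists_smul_eq G S T
  refine ⟨a⁻¹, mem_centralizer_iff.2 fun t ht => ?_⟩
  have hmem : a * t * a⁻¹ ∈ ((a • S : Sylow s G) : Subgroup G) := ⟨t, ht, rfl⟩
  have h := commute_of_mem_centralizer (hT hmem)
  have h2 := h.conj (a⁻¹)
  rw [show a⁻¹ * (a * t * a⁻¹) * a⁻¹⁻¹ = t by group] at h2
  exact h2.eq

include hr in
theorem sup_eq_top : hub y ⊔ cen S = ⊤ := by
  refine GroupBasics.eq_top_of_forall_conj_mem fun g => ?_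
  by_cases hg : g ∈ hub y
  · exact ⟨1, mem_sup_left (by simpa using hg)⟩
  · obtain ⟨a, ha⟩ := exists_conj_mem hr S hg
    exact ⟨a, mem_sup_right ha⟩

include hr in
theorem exists_mul (g : G) : ∃ w ∈ hub y, ∃ c ∈ cen S, g = w * c := by
  haveI := hub_normal y
  have h : g ∈ ((hub y ⊔ cen S : Subgroup G) : Set G) := by rw [sup_eq_top hr S]; exact mem_top g
  rw [normal_mul] at h
  obtain ⟨w, hw, c, hc, rfl⟩ := h
  exact ⟨w, hw, c, hc, rfl⟩

include hr in
theorem inf_conj_mem {d : G} (hd : d ∈ hub y) (hd' : d ∈ cen S) (g : G) :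
    g * d * g⁻¹ ∈ cen S := by
  haveI := hub_normal y
  obtain ⟨w, hw, c, hc, rfl⟩ := exists_mul hr S g
  have hcd : c * d * c⁻¹ ∈ hub y := (hub_normal y).conj_mem d hd c
  have : w * c * d * (w * c)⁻¹ = c * d * c⁻¹ := by
    calc w * c * d * (w * c)⁻¹ = w * (c * d * c⁻¹) * w⁻¹ := by group
      _ = c * d * c⁻¹ := by rw [(hub_comm hw hcd).eq, mul_inv_cancel_right]
  rw [this]
  exact mul_mem (mul_mem hc hd') (inv_mem hc)

include hr in
/-- Fixed point freeness. -/
theorem fpf {c w : G} (hc : c ∈ cen S) (hcW : c ∉ hub y) (hw : w ∈ hub y)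
    (h : w * c * w⁻¹ ∈ cen S) : w ∈ cen S := by
  haveI hWn := hub_normal y
  set W := hub y with hW
  set D : Subgroup W := (cen S).subgroupOf W with hD
  haveI : D.Normal := ⟨fun a ha b => by
    rw [hD, mem_subgroupOf] at ha ⊢
    rw [coe_mul, coe_mul, InvMemClass.coe_inv, (hub_comm b.2 a.2).eq, mul_inv_cancel_right]
    exact ha⟩
  have hf : ∀ a : W, (a : G) * c * (a : G)⁻¹ * c⁻¹ ∈ W := fun a => by
    have h1 : c * (a : G)⁻¹ * c⁻¹ ∈ W := hWn.conj_mem _ (inv_mem a.2) c
    have := mul_mem a.2 h1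
    simpa [mul_assoc] using this
  let f : W →* W := MonoidHom.mk' (fun a => ⟨(a : G) * c * (a : G)⁻¹ * c⁻¹, hf a⟩) fun a b => by
    apply Subtype.ext
    change (a * b : W).1 * c * (a * b : W).1⁻¹ * c⁻¹ =
      (a.1 * c * a.1⁻¹ * c⁻¹) * (b.1 * c * b.1⁻¹ * c⁻¹)
    rw [coe_mul, ← (hub_comm (hf b) (hf a)).eq]
    calc a.1 * b.1 * c * (a.1 * b.1)⁻¹ * c⁻¹
        = a.1 * (b.1 * c * b.1⁻¹ * c⁻¹) * (c * a.1⁻¹ * c⁻¹) := by group
      _ = (b.1 * c * b.1⁻¹ * c⁻¹) * a.1 * (c * a.1⁻¹ * c⁻¹) := by rw [(hub_comm a.2 (hf b)).eq]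
      _ = _ := by group
  have hfD : D ≤ D.comap f := fun a ha => by
    rw [mem_comap, hD, mem_subgroupOf]
    exact mul_mem (mul_mem (mul_mem ha hc) (inv_mem ha)) (inv_mem hc)
  let F := QuotientGroup.map D D f hfD
  have hsurj : Function.Surjective F := by
    intro q
    obtain ⟨w₀, rfl⟩ := QuotientGroup.mk_surjective q
    have hnW : (w₀ : G) * c ∉ W := fun h' => hcW (by
      simpa using mul_mem (inv_mem w₀.2) h')
    obtain ⟨a, ha⟩ := exists_conj_mem hr S hnW
    obtain ⟨w₁, hw₁, c₁, hc₁, hac⟩ := exists_mul hr S a⁻¹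
    have ha' : a = c₁⁻¹ * w₁⁻¹ := by rw [← mul_inv_rev, ← hac, inv_inv]
    subst ha'
    have h2 : w₁⁻¹ * ((w₀ : G) * c) * w₁ ∈ cen S := by
      have := mul_mem (mul_mem hc₁ ha) (inv_mem hc₁)
      simpa [mul_assoc] using this
    refine ⟨QuotientGroup.mk ⟨w₁, hw₁⟩, ?_⟩
    rw [QuotientGroup.map_mk, QuotientGroup.eq, hD, mem_subgroupOf]
    change (w₁ * c * w₁⁻¹ * c⁻¹)⁻¹ * (w₀ : G) ∈ cen S
    have h3 := mul_mem h2 (inv_mem hc)
    convert h3 using 1
    have h4 : Commute (c * w₁ * c⁻¹) (w₁⁻¹ * (w₀ : G)) :=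
      hub_comm (hWn.conj_mem _ hw₁ c) (mul_mem (inv_mem hw₁) w₀.2)
    calc (w₁ * c * w₁⁻¹ * c⁻¹)⁻¹ * (w₀ : G) = c * w₁ * c⁻¹ * (w₁⁻¹ * (w₀ : G)) := by group
      _ = w₁⁻¹ * (w₀ : G) * (c * w₁ * c⁻¹) := h4.eq
      _ = _ := by group
  have hinj := Finite.injective_iff_surjective.2 hsurj
  have h1 : F (QuotientGroup.mk ⟨w, hw⟩) = F 1 := by
    rw [map_one, QuotientGroup.map_mk, QuotientGroup.eq_one_iff, hD, mem_subgroupOf]
    exact mul_mem h (inv_mem hc)
  have := hinj h1
  rw [QuotientGroup.eq_one_iff, hD, mem_subgroupOf] at this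
  exact this

include hr in
theorem not_hub_le : ¬ hub y ≤ cen S := by
  intro hle
  obtain ⟨g, hg⟩ := hr.vertex
  have key : ∀ g : G, ∃ a : G, a * g * a⁻¹ ∈ cen S := fun g => by
    by_cases hg : g ∈ hub y
    · exact ⟨1, by simpa using hle hg⟩
    · exact exists_conj_mem hr S hg
  have htop := GroupBasics.eq_top_of_forall_conj_mem key
  have h1 : (S : Subgroup G) ≤ centralizer ({g} : Set G) := fun t ht =>
    mem_centralizer_singleton_iff.2
      ((mem_centralizer_iff.1 (htop.ge (mem_top g)) t ht))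
  exact S.not_dvd_index (hg.trans (index_dvd_of_le h1))

/-- The fixed point free part of `hub y`. -/
noncomputable def vv (y : G) (S : Sylow s G) : ℕ := (cen S).relIndex (hub y)

include hr in
theorem vv_dvd_cs {g : G} (hg : g ∉ hub y) : vv y S ∣ cs g := by
  haveI := hub_normal y
  obtain ⟨a, ha⟩ := exists_conj_mem hr S hg
  have hnot : a * g * a⁻¹ ∉ hub y := fun h => hg (by
    simpa [mul_assoc] using (hub_normal y).conj_mem _ h a⁻¹)
  rw [← cs_conj a g]
  have hle : centralizer ({a * g * a⁻¹} : Set G) ⊓ hub y ≤ cen S := by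
    rintro w ⟨hw1, hw2⟩
    refine fpf hr S ha hnot hw2 ?_
    rw [(commute_of_mem_centralizer hw1).eq, mul_inv_cancel_right]
    exact ha
  refine dvd_trans ?_ (relIndex_dvd_cs (hub_normal y) _)
  rw [vv, ← inf_relIndex_right (centralizer ({a * g * a⁻¹} : Set G))]
  exact relIndex_dvd_of_le_left _ hle

include hr in
theorem centralizer_eq_hub {w : G} (hw : w ∈ hub y) (hw' : w ∉ cen S) :
    centralizer ({w} : Set G) = hub y := by
  haveI := hub_normal y
  refine le_antisymm (fun g hg => ?_) fun g hg =>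
    mem_centralizer_of_commute (hub_comm hg hw)
  obtain ⟨w₁, hw₁, c, hc, rfl⟩ := exists_mul hr S g
  refine mul_mem hw₁ ?_
  by_contra hcW
  have h1 : Commute c w := by
    have h := (commute_of_mem_centralizer hg)
    have := ((hub_comm (inv_mem hw₁) hw)).mul_left h
    rwa [inv_mul_cancel_left] at this
  refine hw' (fpf hr S hc hcW hw ?_)
  rw [← h1.eq, mul_inv_cancel_right]
  exact hc

theorem cs_dvd_index {w : G} (hw : w ∈ hub y) : cs w ∣ (hub y).index :=
  index_dvd_of_le fun _ hg => mem_centralizer_of_commute (hub_comm hg hw)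

include hr in
theorem exists_cs_eq_index : ∃ w ∈ hub y, cs w = (hub y).index ∧ s ∣ cs w := by
  obtain ⟨S⟩ : Nonempty (Sylow s G) := inferInstance
  obtain ⟨g, hg⟩ := hr.vertex
  obtain ⟨w, hw, hw'⟩ := SetLike.not_le_iff_exists.1 (not_hub_le hr S)
  have h : cs w = (hub y).index := by rw [cs, centralizer_eq_hub hr S hw hw']
  refine ⟨w, hw, h, h ▸ hg.trans (cs_dvd_index (mem_hub hr.max (hr.coprime g hg)))⟩

include hr in
theorem coprime_index : Nat.Coprime (hub y).index (cs y) := by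
  obtain ⟨w, -, h, h'⟩ := exists_cs_eq_index hr
  exact h ▸ hr.coprime w h'

include hr in
theorem one_lt_max : 1 < cs y := by
  obtain ⟨g, hg⟩ := hr.vertex
  have h1 := Nat.le_of_dvd (cs_pos g) hg
  have h2 := hr.max g
  have := hr.prime.two_le
  omega

include hr in
theorem not_mem_hub : y ∉ hub y := fun h => by
  have h1 := Nat.eq_one_of_dvd_coprimes (coprime_index hr) (cs_dvd_index h) dvd_rfl
  have := one_lt_max hr
  omega

include hr in
theorem vv_dvd_max : vv y S ∣ cs y := vv_dvd_cs hr S (not_mem_hub hr)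

include hr in
theorem one_lt_vv : 1 < vv y S := by
  have h1 : vv y S ≠ 1 := fun h => not_hub_le hr S (relIndex_eq_one.1 h)
  have h2 : vv y S ≠ 0 := fun h => by
    have := vv_dvd_max hr S
    rw [h, zero_dvd_iff] at this
    exact (cs_pos y).ne' this
  omega

end CfsgLib.ClassSizeGraph
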